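import Cfsg.Agent.Spor.J4L.D0

set_option autoImplicit false
set_option maxRecDepth 100000000
set_option Elab.async false

namespace Cfsg.Agent.Spor.J4L

theorem w2 : PA.isW J4V.A J4V.TT [4, 2, 0, 2, 0, 4, 2, 4, 2, 0, 2, 0, 4, 2, 4, 2, 0, 2, 0, 4, 2] m1 = true := by decide +kernel

theorem w5 : PA.isW J4V.A J4V.TT [0, 0, 2, 4, 2, 0, 2, 4, 2, 0, 4, 1, 3, 5, 2, 4, 2, 0, 2, 1, 3, 4, 2, 0, 2, 4, 2, 0, 5, 0, 4, 2] m4 = true := by decide +kernel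

theorem w8 : PA.isW J4V.A J4V.TT [0, 4, 1, 3, 5, 3, 5, 3, 5, 0, 2, 4, 2, 0, 2, 4, 2, 4, 1, 3, 5, 3, 1, 3, 1, 3, 1, 3, 5, 3, 5, 3, 1, 3, 1, 3, 5, 1, 3, 5] m7 = true := by decide +kernel

theorem iv11 : band (PA.can J4V.A m10) (Nat.beq (PA.mul J4V.A m7 m10) J4V.A.one) = true := by decide +kernel

theorem pr14 : Nat.beq (PA.prod J4V.A [m10, m1, m4, m1, m10, m1, m4] J4V.A.one) m13 = true := by decide +kernel

theorem pr17 : Nat.beq (PA.prod J4V.A [m13, m13] J4V.A.one) m16 = true := by decide +kernel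

theorem pr20 : Nat.beq (PA.prod J4V.A [m1, m1, m1, m1, m1, m1, m1, m1, m1, m1, m1, m16, m16, m16, m16, m16, m16, m16, m16, m16, m16, m16] J4V.A.one) m19 = true := by decide +kernel

theorem iv23 : band (PA.can J4V.A m22) (Nat.beq (PA.mul J4V.A m13 m22) J4V.A.one) = true := by decide +kernel

theorem pr26 : Nat.beq (PA.prod J4V.A [m22, m19, m13] J4V.A.one) m25 = true := by decide +kernel

theorem TPok : PA.gensOk J4V.A TP 2 = true := by decide +kernel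

theorem nc : PA.neq J4V.A (PA.evw J4V.A TP [0, 2] J4V.A.one) (PA.evw J4V.A TP [2, 0] J4V.A.one) = true := by decide +kernel

theorem r30 : PA.isW J4V.A TP [0, 0, 0, 0, 0, 0, 0, 0, 0, 0, 0] J4V.A.one = true := by decide +kernel

theorem r31 : PA.isW J4V.A TP [2, 2, 2, 2, 2, 2, 2, 2, 2, 2, 2] J4V.A.one = true := by decide +kernel

theorem r32 : PA.isW J4V.A TP [1, 3, 0, 2, 1, 3, 0, 2, 1, 3, 0, 2, 1, 3, 0, 2, 1, 3, 0, 2, 1, 3, 0, 2, 1, 3, 0, 2, 1, 3, 0, 2, 1, 3, 0, 2, 1, 3, 0, 2, 1, 3, 0, 2] J4V.A.one = true := by decide +kernel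

theorem r33 : PA.isW J4V.A TP [1, 3, 1, 2, 0, 3, 0, 2] J4V.A.one = true := by decide +kernel

theorem r34 : PA.isW J4V.A TP [3, 3, 1, 2, 0, 2, 1, 3, 0, 2] J4V.A.one = true := by decide +kernel

theorem w35 : PA.isW J4V.A J4V.TT [4, 2, 0, 2, 0, 4, 3, 4, 3] g29 = true := by decide +kernel

theorem o29 : band (Nat.beq (PA.pw J4V.A g29 29) J4V.A.one) (PA.neq J4V.A g29 J4V.A.one) = true := by decide +kernel

theorem w37 : PA.isW J4V.A J4V.TT [0, 4, 2, 0, 2, 0, 2] g31 = true := by decide +kernel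

theorem o31 : band (Nat.beq (PA.pw J4V.A g31 31) J4V.A.one) (PA.neq J4V.A g31 J4V.A.one) = true := by decide +kernel

theorem w39 : PA.isW J4V.A J4V.TT [0, 4, 2] g37 = true := by decide +kernel

theorem o37 : band (Nat.beq (PA.pw J4V.A g37 37) J4V.A.one) (PA.neq J4V.A g37 J4V.A.one) = true := by decide +kernel

theorem w41 : PA.isW J4V.A J4V.TT [4, 2, 4, 2, 0, 2, 0, 4, 2] g43 = true := by decide +kernel

theorem o43 : band (Nat.beq (PA.pw J4V.A g43 43) J4V.A.one) (PA.neq J4V.A g43 J4V.A.one) = true := by decide +kernel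

theorem nee : PA.neq J4V.A (PA.evw J4V.A J4V.TT [2, 1, 2, 1, 3, 1, 3, 1, 3, 1, 3, 4, 2, 0, 2, 0, 2, 0, 2, 0, 3, 0, 2, 1, 2, 1, 3, 1, 3, 1, 3, 1, 3, 4, 2, 0, 2, 0, 2, 0, 2, 0, 3, 0, 2, 1, 2, 1, 3, 1, 3, 1, 3, 1, 3, 4, 2, 0, 2, 0, 2, 0, 2, 0, 3, 0] J4V.A.one) J4V.A.one = true := by decide +kernel

theorem ney : PA.neq J4V.A (PA.evw J4V.A J4V.TT [2] J4V.A.one) J4V.A.one = true := by decide +kernel

end Cfsg.Agent.Spor.J4L
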