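import Cfsg.Agent.Spor.J4V.Main
import Cfsg.Agent.Spor.J4X.Main
import Cfsg.Agent.Spor.J4L.C0

set_option autoImplicit false
set_option maxRecDepth 100000000
set_option Elab.async false

namespace Cfsg.Agent.Spor.J4L

theorem hM3 : J4V.X.M m1 := (J4V.gens.isW w2).1
theorem hM6 : J4V.X.M m4 := (J4V.gens.isW w5).1
theorem hM9 : J4V.X.M m7 := (J4V.gens.isW w8).1
theorem hM12 : J4V.X.M m10 := (MRep.M.inv hM9 iv11).1
theorem hM15 : J4V.X.M m13 := MRep.M.of_prod (L := [m10, m1, m4, m1, m10, m1, m4]) (AllP.cons hM12 (AllP.cons hM3 (AllP.cons hM6 (AllP.cons hM3 (AllP.cons hM12 (AllP.cons hM3 (AllP.cons hM6 (AllP.nil)))))))) pr14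
theorem hM18 : J4V.X.M m16 := MRep.M.of_prod (L := [m13, m13]) (AllP.cons hM15 (AllP.cons hM15 (AllP.nil))) pr17
theorem hM21 : J4V.X.M m19 := MRep.M.of_prod (L := [m1, m1, m1, m1, m1, m1, m1, m1, m1, m1, m1, m16, m16, m16, m16, m16, m16, m16, m16, m16, m16, m16]) (AllP.cons hM3 (AllP.cons hM3 (AllP.cons hM3 (AllP.cons hM3 (AllP.cons hM3 (AllP.cons hM3 (AllP.cons hM3 (AllP.cons hM3 (AllP.cons hM3 (AllP.cons hM3 (AllP.cons hM3 (AllP.cons hM18 (AllP.cons hM18 (AllP.cons hM18 (AllP.cons hM18 (AllP.cons hM18 (AllP.cons hM18 (AllP.cons hM18 (AllP.cons hM18 (AllP.cons hM18 (AllP.cons hM18 (AllP.cons hM18 (AllP.nil))))))))))))))))))))))) pr20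
theorem hM24 : J4V.X.M m22 := (MRep.M.inv hM15 iv23).1
theorem hM27 : J4V.X.M m25 := MRep.M.of_prod (L := [m22, m19, m13]) (AllP.cons hM24 (AllP.cons hM21 (AllP.cons hM15 (AllP.nil)))) pr26
theorem gTP : J4V.X.Gens TP (atm 2 (J4V.X.gen TP)) :=
  MRep.Gens.of_M TPok (MRep.allM (L := [m19, m25]) (AllP.cons hM21 (AllP.cons hM27 (AllP.nil))) rfl)
theorem d11 : 11 ^ 3 ∣ Nat.card J4V.H := by
  have h : Pres 2 0 J4X.RL (J4V.X.gen TP) := ⟨fun _ h => absurd h (Nat.not_lt_zero _), gTP.all_one (show AllP (fun w => PA.isW J4V.A TP w J4V.A.one = true) [[0, 0, 0, 0, 0, 0, 0, 0, 0, 0, 0], [2, 2, 2, 2, 2, 2, 2, 2, 2, 2, 2], [1, 3, 0, 2, 1, 3, 0, 2, 1, 3, 0, 2, 1, 3, 0, 2, 1, 3, 0, 2, 1, 3, 0, 2, 1, 3, 0, 2, 1, 3, 0, 2, 1, 3, 0, 2, 1, 3, 0, 2, 1, 3, 0, 2], [1, 3, 1, 2, 0, 3, 0, 2], [3, 3, 1, 2, 0, 2, 1, 3, 0, 2]] from AllP.cons r30 (AllP.cons r31 (AllP.cons r32 (AllP.cons r33 (AllP.cons r34 (AllP.nil))))))⟩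
  exact cube_dvd' (by norm_num) (J4X.cert.bound_nil _ _ h) (u := [0]) (v := [2]) (gTP.neq nc)
theorem hM36 : J4V.X.M g29 := (J4V.gens.isW w35).1
theorem ord29 : orderOf (ev (atm 3 J4V.h) [4, 2, 0, 2, 0, 4, 3, 4, 3]) = 29 :=
  (J4V.gens.isW w35).2 ▸ (J4V.gens.isW w35).1.ord (by norm_num) o29
theorem hM38 : J4V.X.M g31 := (J4V.gens.isW w37).1
theorem ord31 : orderOf (ev (atm 3 J4V.h) [0, 4, 2, 0, 2, 0, 2]) = 31 :=
  (J4V.gens.isW w37).2 ▸ (J4V.gens.isW w37).1.ord (by norm_num) o31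
theorem hM40 : J4V.X.M g37 := (J4V.gens.isW w39).1
theorem ord37 : orderOf (ev (atm 3 J4V.h) [0, 4, 2]) = 37 :=
  (J4V.gens.isW w39).2 ▸ (J4V.gens.isW w39).1.ord (by norm_num) o37
theorem hM42 : J4V.X.M g43 := (J4V.gens.isW w41).1
theorem ord43 : orderOf (ev (atm 3 J4V.h) [4, 2, 4, 2, 0, 2, 0, 4, 2]) = 43 :=
  (J4V.gens.isW w41).2 ▸ (J4V.gens.isW w41).1.ord (by norm_num) o43

theorem homπ : ∃ π : J4N.P →* J4P.P, ∀ j < 3, π (J4N.p j) = wv 2 J4P.p [[0], [2], []] j :=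
  J4N.bound.exists_hom (by norm_num) J4N.pres
    (J4P.presP.subst (WD := [[0], [2], []]) (H := [([], 0, true), ([], 1, true), ([], 2, true), ([], 3, true), ([], 4, true), ([], 5, true), ([], 6, true), ([], 7, false), ([], 7, false), ([], 7, false), ([], 7, false), ([], 7, false), ([], 7, false)]) (by decide +kernel)) J4N.lbP

/-- the projection of the affine group to its linear part -/
noncomputable def π : J4N.P →* J4P.P := homπ.choose
theorem hπ : ∀ j < 3, π (J4N.p j) = wv 2 J4P.p [[0], [2], []] j := homπ.choose_spec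

theorem rangeπ : π.range = ⊤ :=
  (range_eq_gsub hπ (gsub_lift 3 _)).trans
    ((wsub_gens (W := [[0], [2], []]) _ (by decide)).trans (gsub_lift 2 _))

theorem cardE : Nat.card π.ker = 2048 := card_ker_of rangeπ J4N.cardP J4P.cardP (by norm_num)

theorem pres2 : Pres 4 0 J4C.RL2 (wv 3 J4V.h J4C.WD) := J4C.pres2 J4V.pres

instance instFiniteH : Finite J4V.H :=
  (J4C2.done pres2).finite (J4C2.gtop pres2 (J4C.top2 J4V.top))

theorem injψ : Function.Injective (J4C2.Y pres2).ψ :=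
  haveI := J4P.simpleP
  inj_of_affine (ι := (J4N.Y J4N.presP).ψ) (J4N.range J4N.presP ▸ J4N.coatomP)
    (J4N.range J4N.presP ▸ J4N.coreP) π.ker (pow_eq_one_of_card cardE) _ (e := J4N.p 2)
    (hπ 2 (by norm_num)) (by rw [J4C2.hψ pres2 2 (by norm_num)]; exact J4V.gens.ne_one nee)
    (y := J4P.p 1) (by
      rw [J4N.hψ J4N.presP 1 (by norm_num), J4C2.hψ pres2 1 (by norm_num)]
      refine pow_ne_one_of_coprime (a := 3) ?_ (J4V.gens.ne_one ney) (by norm_num)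
      have := J4V.pres.rel [2, 2, 2] (by decide)
      simpa only [wv, J4C.WD, List.getD_cons_succ, List.getD_cons_zero, ev_cons, ev_nil, mul_one,
        pow_succ, pow_zero, one_mul, mul_assoc] using this)

theorem lb : 501397585920 * 173067389 ∣ Nat.card J4V.H := by
  have h1 : 501397585920 ∣ Nat.card J4V.H := J4N.cardP ▸ Subgroup.card_dvd_of_injective _ injψ
  have h2 : 29 ∣ Nat.card J4V.H := ord29 ▸ orderOf_dvd_natCard _
  have h3 : 31 ∣ Nat.card J4V.H := ord31 ▸ orderOf_dvd_natCard _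
  have h4 : 37 ∣ Nat.card J4V.H := ord37 ▸ orderOf_dvd_natCard _
  have h5 : 43 ∣ Nat.card J4V.H := ord43 ▸ orderOf_dvd_natCard _
  exact (show _ ∣ Nat.lcm (Nat.lcm (Nat.lcm (Nat.lcm (Nat.lcm _ _) _) _) _) _ by decide +kernel).trans
    (Nat.lcm_dvd (Nat.lcm_dvd (Nat.lcm_dvd (Nat.lcm_dvd (Nat.lcm_dvd h1 h2) h3) h4) h5) d11)

end Cfsg.Agent.Spor.J4L
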